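import Groth.Agent.PnCohLib.Split
import Groth.Agent.NegTwistLib.Main
import Groth.Agent.TwistEmbedLib.Main
import Groth.Agent.GenusZeroLib.PSpace
import Groth.Agent.CurveVBLib.Basic
import Groth.Agent.KFlatLib.PullTensor

/-! Horrocks' splitting criterion for bundles on projective space. -/

set_option autoImplicit false
set_option linter.style.haveILetI false
set_option maxHeartbeats 1000000
universe u

open CategoryTheory CategoryTheory.Limits AlgebraicGeometry TopologicalSpace Opposite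
open KFlatLib (pb)

noncomputable section

namespace HorrocksPn

attribute [local instance] Abelian.hasFiniteBiproducts

variable {k : Type u} [Field k] {n : ℕ}

local notation "P" => CohB1.ProjSpace n k
local notation "O'" => Twist.twistProjSpace n k

theorem not_closed_generic (hn : 1 ≤ n) (x : P) (hx : IsClosed ({x} : Set P)) :
    ¬ IsField ((P).presheaf.stalk x) := by
  intro hF
  haveI : IsIntegral P := PicPnLib.isIntegral_projSpace n k
  have hy := genericPoint_specializes (α := P) x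
  have h1 : genericPoint P ∈ Set.range ((P).fromSpecStalk x) := by rw [Scheme.range_fromSpecStalk]; exact hy
  obtain ⟨q, hq⟩ := h1
  letI := hF.toField
  have hcl : (P).fromSpecStalk x (IsLocalRing.closedPoint ((P).presheaf.stalk x)) = x := Scheme.fromSpecStalk_closedPoint
  have hsub : Subsingleton (PrimeSpectrum ((P).presheaf.stalk x)) := inferInstance
  have hg : genericPoint P = x := by
    rw [← hq, show q = IsLocalRing.closedPoint ((P).presheaf.stalk x) from @Subsingleton.elim _ hsub _ _, hcl]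
  have huniv : ∀ y : P, y = x := fun y => by
    have h2 : y ∈ closure ({genericPoint P} : Set P) := by rw [genericPoint_closure]; trivial
    rwa [hg, hx.closure_eq] at h2
  haveI : Subsingleton P := ⟨fun a b => (huniv a).trans (huniv b).symm⟩
  have h0 : topologicalKrullDim P ≤ 0 := topologicalKrullDim_zero_of_discreteTopology P
  rw [GenusZeroLib.dim_projSpace k n] at h0
  have : (n : WithBot ℕ∞) ≤ ((0 : ℕ) : WithBot ℕ∞) := by simpa using h0
  have := WithBot.coe_le_coe.1 this
  exact absurd (ENat.natCast_le_natCast.1 this) (by omega)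

theorem not_isAssPoint (hn : 1 ≤ n) {E : (P).Modules} (hE : FlatMod.IsFinLocFree E) (x : P)
    (hx : IsClosed ({x} : Set P)) : ¬ Curv2.IsAssPoint E x := by
  intro h
  haveI : IsIntegral P := PicPnLib.isIntegral_projSpace n k
  haveI : IsDomain ((P).presheaf.stalk x) := inferInstance
  obtain ⟨U, r, hU, ⟨φ⟩⟩ := hE x
  obtain ⟨t⟩ := CurveVBLib.nonempty_stalk_pi_on φ hU
  obtain ⟨v, hv⟩ := h.2
  have hm : IsLocalRing.maximalIdeal ((P).presheaf.stalk x) = ⊥ := by
    rw [Submodule.eq_bot_iff]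
    intro a ha
    by_contra ha0
    rw [hv] at ha
    obtain ⟨N, hN⟩ := ha
    have hN' : (a ^ N) • v = 0 := by
      simpa [Submodule.mem_colon_singleton] using hN
    have hv0 : t v = 0 := by
      funext i
      have h1 : a ^ N * t v i = 0 :=
        congrFun ((t.map_smul (a ^ N) v).symm.trans ((congrArg t hN').trans (map_zero t))) i
      exact (mul_eq_zero.1 h1).resolve_left (pow_ne_zero _ ha0)
    have hv1 : v = 0 := t.injective (hv0.trans (map_zero t).symm)
    subst hv1
    apply h.1.ne_top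
    rw [hv, Ideal.radical_eq_top]
    exact eq_top_iff.2 fun b _ => by simp [Submodule.mem_colon_singleton]
  exact not_closed_generic hn x hx (IsLocalRing.isField_iff_maximalIdeal_eq.2 hm)

theorem tensorPow_neg : ∀ m : ℕ, Nonempty (CohB1.tensorPow (O' (-1)) m ≅ O' (-(m : ℤ)))
  | 0 => by
    obtain ⟨e⟩ := PicPnLib.twist_zero n k
    exact ⟨e.symm ≪≫ eqToIso (by simp)⟩
  | m + 1 => by
    obtain ⟨e⟩ := tensorPow_neg m
    obtain ⟨e'⟩ := PicPnLib.twist_add n k (-(m : ℤ)) (-1)
    exact ⟨HilbPolyLib.congrLeft e _ ≪≫ e' ≪≫ eqToIso (by push_cast; rw [neg_add])⟩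

/-- Negative twists of a bundle have no sections. -/
theorem exists_h0_vanish (hn : 1 ≤ n) {E : (P).Modules} (hE : FlatMod.IsFinLocFree E) :
    ∃ t₀ : ℤ, ∀ t : ℤ, t ≤ t₀ → Subsingleton (Coh.HH P (CohB1.tensorMod E (O' t)) 0) := by
  haveI : IsProper (CohB1.ProjSpace.toSpec n k) := by
    obtain ⟨q, hq, -⟩ := PicPnLib.exists_map n k
    exact MorphismProperty.of_isPullback hq (ChowLib.isProper_toSpec n)
  haveI : IsProper (P ↘ Spec (CommRingCat.of k)) := ‹IsProper (CohB1.ProjSpace.toSpec n k)›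
  haveI : IsLocallyNoetherian P := LocallyOfFiniteType.isLocallyNoetherian (CohB1.ProjSpace.toSpec n k)
  obtain ⟨a⟩ := PicPnLib.twist_add n k 1 (-1)
  obtain ⟨b⟩ := PicPnLib.twist_zero n k
  let φ : CohB1.tensorMod (O' 1) (O' (-1)) ≅ Coh.structureModule P := a ≪≫ eqToIso (by simp) ≪≫ b
  have hA : CohB1.IsAmple (O' 1) := by
    have h := TwistEmbed.isAmple_twist (K := k) (n := n) (d := 1) Nat.one_pos
    rwa [Nat.cast_one] at h
  haveI : IsIso φ.hom := inferInstance
  obtain ⟨n₀, h⟩ := NegTwistLib.exists_subsingleton k hA φ.hom E (Groth.Agent.PerfLib.isCoh_of_isFinLocFree hE)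
    (not_isAssPoint hn hE)
  refine ⟨-(n₀ : ℤ), fun t ht => ?_⟩
  obtain ⟨m, rfl⟩ : ∃ m : ℕ, t = -(m : ℤ) := ⟨(-t).toNat, by omega⟩
  exact SerreVanLib.subsingleton_HH_of_iso (HilbPolyLib.congrRight E (tensorPow_neg m).some.symm) 0 (h m (by omega))

/-- Horrocks' criterion for bundles. -/
theorem exists_split (hn : 1 ≤ n) {E : (P).Modules} (hE : FlatMod.IsFinLocFree E)
    (h : ∀ (t : ℤ) (i : ℕ), 1 ≤ i → i < n → Subsingleton (Coh.HH P (CohB1.tensorMod E (O' t)) i)) :
    ∃ (r : ℕ) (a : Fin r → ℤ), Nonempty (E ≅ ∐ fun j => O' (a j)) := by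
  haveI : IsLocallyNoetherian P := PnCohLib.isLocallyNoetherian_projSpace k
  obtain ⟨r, d, ⟨e⟩⟩ := PnCohLib.exists_iso_of_acm k hn E (Groth.Agent.PerfLib.isCoh_of_isFinLocFree hE)
    ⟨exists_h0_vanish hn hE, h⟩
  exact ⟨r, fun j => -d j, ⟨e ≪≫ biproduct.isoCoproduct _⟩⟩

/-- Middle cohomology of twisted sums of twists vanishes. -/
theorem vanish_of_split (hn : 1 ≤ n) {E : (P).Modules} {r : ℕ} {a : Fin r → ℤ} (e : E ≅ ∐ fun j => O' (a j))
    (t : ℤ) (i : ℕ) (hi : 1 ≤ i) (hin : i < n) : Subsingleton (Coh.HH P (CohB1.tensorMod E (O' t)) i) :=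
  (PnCohLib.acm_of_sum k hn (fun j => -a j) E
    (e ≪≫ (biproduct.isoCoproduct _).symm ≪≫ biproduct.mapIso fun j => eqToIso (by rw [neg_neg]))).2 t i hi hin

/-- The point `P^0`. -/
theorem subsingleton_point (h0 : n = 0) : Subsingleton P := by
  subst h0
  let e := RingEquiv.ofBijective (GenusZeroLib.chartPoly 0 k 0) (GenusZeroLib.chartPoly_bijective 0 k 0)
  have hF : IsField (MvPolynomial (Fin 0) k) :=
    (MvPolynomial.isEmptyRingEquiv k (Fin 0)).toMulEquiv.isField (Semifield.toIsField k)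
  have hA : IsField (HomogeneousLocalization.Away (CohB1.polyGrading 0 k) (MvPolynomial.X (0 : Fin 1))) :=
    e.symm.toMulEquiv.isField hF
  have hS : Subsingleton (PrimeSpectrum (HomogeneousLocalization.Away (CohB1.polyGrading 0 k) (MvPolynomial.X (0 : Fin 1)))) := by
    letI := hA.toField
    infer_instance
  let ι := Proj.awayι (CohB1.polyGrading 0 k) (MvPolynomial.X (0 : Fin 1)) (MvPolynomial.isHomogeneous_X k 0) one_pos
  refine ⟨fun x y => ?_⟩
  have hr : ∀ z : CohB1.ProjSpace 0 k, z ∈ Set.range ι := fun z => by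
    have hz : z ∈ ι.opensRange := by
      rw [Proj.opensRange_awayι]
      obtain ⟨i, hi⟩ := ProjSecLib.cover z
      fin_cases i
      exact hi
    exact hz
  obtain ⟨a, rfl⟩ := hr x
  obtain ⟨b, rfl⟩ := hr y
  rw [@Subsingleton.elim _ hS a b]

/-- A bundle on a scheme with one point is free. -/
theorem free_of_subsingleton {Z : Scheme.{u}} [Subsingleton Z] (z : Z) {E : Z.Modules} {r : ℕ}
    (hE : ∃ U : Z.Opens, z ∈ U ∧ Nonempty (E.restrict U.ι ≅ FlatMod.freeMod (↑U) r)) :
    Nonempty (E ≅ FlatMod.freeMod Z r) := by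
  obtain ⟨U, hU, ⟨φ⟩⟩ := hE
  obtain rfl : U = ⊤ := eq_top_iff.2 fun y _ => (Subsingleton.elim z y) ▸ hU
  let j := Z.topIso.inv
  have hj : j ≫ Scheme.Opens.ι (⊤ : Z.Opens) = 𝟙 Z := Z.topIso.inv_hom_id
  exact ⟨((Scheme.Modules.pullbackId Z).app E).symm ≪≫ ((Scheme.Modules.pullbackCongr hj).app E).symm ≪≫
    ((Scheme.Modules.pullbackComp j (Scheme.Opens.ι (⊤ : Z.Opens))).app E).symm ≪≫
    (Scheme.Modules.pullback j).mapIso (((Scheme.Modules.restrictFunctorIsoPullback _).app E).symm ≪≫ φ) ≪≫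
    PreservesCoproduct.iso (Scheme.Modules.pullback j) _ ≪≫ Sigma.mapIso fun _ => KFlatLib.pullUnitIso j⟩

end HorrocksPn

namespace HorrocksPn

attribute [local instance] Abelian.hasFiniteBiproducts

variable {k : Type u} [Field k] {n : ℕ}

theorem rank_eq {E : (CohB1.ProjSpace n k).Modules} {r s : ℕ} (hE : FlatMod.IsFinLocFreeOfRank r E)
    {a : Fin s → ℤ} (e : E ≅ ∐ fun j => Twist.twistProjSpace n k (a j)) : s = r := by
  haveI : IsIntegral (CohB1.ProjSpace n k) := PicPnLib.isIntegral_projSpace n k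
  let x : CohB1.ProjSpace n k := genericPoint _
  obtain ⟨U, hU, ⟨φ⟩⟩ := hE x
  obtain ⟨t⟩ := CurveVBLib.nonempty_stalk_pi_on φ hU
  have hone : ∀ j, ∃ _ : (DevissLib.St x).obj (Twist.twistProjSpace n k (a j)) ≃ₗ[(CohB1.ProjSpace n k).presheaf.stalk x]
      (Fin 1 → (CohB1.ProjSpace n k).presheaf.stalk x), True := fun j => by
    obtain ⟨V, hV, ⟨u⟩⟩ := PicPnLib.twist_inv n k (a j) x
    haveI : Nonempty (Fin 1) := ⟨0⟩
    obtain ⟨w⟩ := CurveVBLib.nonempty_stalk_pi_on
      (u ≪≫ (coproductUniqueIso fun _ : Fin 1 => Coh.structureModule (V : Scheme.{u})).symm) hV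
    exact ⟨w, trivial⟩
  choose w _ using hone
  let θ := ((DevissLib.St x).mapIso (e ≪≫ (biproduct.isoCoproduct _).symm) ≪≫ (DevissLib.St x).mapBiproduct _ ≪≫
    ModuleCat.biproductIsoPi _).toLinearEquiv
  have h1 := (θ.trans (LinearEquiv.piCongrRight w)).finrank_eq
  rw [t.finrank_eq, Module.finrank_fin_fun, Module.finrank_pi_fintype] at h1
  simpa [Module.finrank_fin_fun] using h1.symm

theorem splitting_criterion {r : ℕ} {E : (CohB1.ProjSpace n k).Modules} (hE : FlatMod.IsFinLocFreeOfRank r E) :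
    (∃ a : Fin r → ℤ, Nonempty (E ≅ ∐ fun j : Fin r => Twist.twistProjSpace n k (a j))) ↔
      ∀ (i : ℕ) (d : ℤ), 0 < i → i < n →
        Subsingleton (Coh.HH (CohB1.ProjSpace n k) (CohB1.tensorMod E (Twist.twistProjSpace n k d)) i) := by
  constructor
  · rintro ⟨a, ⟨e⟩⟩ i d hi hin
    exact vanish_of_split (by omega) e d i hi hin
  · intro h
    have hE' : FlatMod.IsFinLocFree E := fun x => let ⟨U, hU, φ⟩ := hE x; ⟨U, r, hU, φ⟩
    rcases Nat.eq_zero_or_pos n with h0 | hn
    · haveI := subsingleton_point (k := k) h0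
      haveI : IsIntegral (CohB1.ProjSpace n k) := PicPnLib.isIntegral_projSpace n k
      obtain ⟨φ⟩ := free_of_subsingleton (genericPoint (CohB1.ProjSpace n k)) (hE _)
      obtain ⟨b⟩ := PicPnLib.twist_zero n k
      exact ⟨fun _ => 0, ⟨φ ≪≫ Sigma.mapIso fun _ => b.symm⟩⟩
    · obtain ⟨s, a, ⟨e⟩⟩ := exists_split hn hE' fun t i hi hin => h i t hi hin
      obtain rfl := rank_eq hE e
      exact ⟨a, ⟨e⟩⟩

end HorrocksPn
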